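import Mathlib
import Groth.Prelude.Def_W4c1arstab1appArSing

/-!
# The algebras `k[[x, y]]/(y^2 - x^(r+1))`: local ring, endomorphisms by substitution
-/

universe u v

open IsLocalRing

namespace Groth.Agent.ArSingLib

variable {k : Type u} [Field k] {r r' : ℕ}

local notation "P" => MvPowerSeries (Fin 2) k

theorem mv_C_eq (c : k) : (MvPowerSeries.C c : P) = algebraMap k P c := by
  simp [MvPowerSeries.algebraMap_apply]

theorem mv_decomp (F : P) : ∃ G H : P, F = MvPowerSeries.C (MvPowerSeries.constantCoeff F) +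
    MvPowerSeries.X 0 * G + MvPowerSeries.X 1 * H := by
  classical
  let F0 : P := fun m => if m 0 = 0 then MvPowerSeries.coeff m F else 0
  have h0 : ∀ m, MvPowerSeries.coeff m F0 = if m 0 = 0 then MvPowerSeries.coeff m F else 0 :=
    fun m => rfl
  obtain ⟨G, hG⟩ : (MvPowerSeries.X 0 : P) ∣ F - F0 := by
    rw [MvPowerSeries.X_dvd_iff]
    intro m hm
    rw [map_sub, h0, if_pos hm, sub_self]
  obtain ⟨H, hH⟩ : (MvPowerSeries.X 1 : P) ∣ F0 - MvPowerSeries.C (MvPowerSeries.constantCoeff F) := by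
    rw [MvPowerSeries.X_dvd_iff]
    intro m hm
    rw [map_sub, h0, MvPowerSeries.coeff_C]
    by_cases hm0 : m 0 = 0
    · have : m = 0 := by
        ext i
        fin_cases i
        · exact hm0
        · exact hm
      rw [if_pos hm0, if_pos this, this, MvPowerSeries.coeff_zero_eq_constantCoeff, sub_self]
    · rw [if_neg hm0, if_neg (fun h => hm0 (by rw [h]; rfl)), sub_self]
  exact ⟨G, H, by rw [← hG, add_assoc, ← hH]; ring⟩

theorem eq_of_forall_mem {T : Type v} [CommRing T] (J : Ideal T) [IsHausdorff J T] {a b : T}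
    (h : ∀ n, a - b ∈ J ^ n) : a = b :=
  sub_eq_zero.1 (IsHausdorff.haus (I := J) inferInstance _ fun n => by
    rw [SModEq.zero, Ideal.smul_eq_mul, Ideal.mul_top]; exact h n)

theorem mv_hom_ext {T : Type v} [CommRing T] [Algebra k T] (J : Ideal T) [IsHausdorff J T]
    {φ ψ : P →ₐ[k] T} (h : ∀ i, φ (MvPowerSeries.X i) = ψ (MvPowerSeries.X i))
    (hJ : ∀ i, φ (MvPowerSeries.X i) ∈ J) : φ = ψ := by
  refine AlgHom.ext fun F => eq_of_forall_mem J fun n => ?_
  induction n generalizing F with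
  | zero => simp
  | succ n ih =>
    obtain ⟨G, H, hF⟩ := mv_decomp F
    rw [hF, mv_C_eq, map_add, map_add, map_add, map_add, map_mul, map_mul, map_mul, map_mul,
      AlgHom.commutes, AlgHom.commutes, ← h 0, ← h 1,
      show ∀ a b c d e f g : T, (g + a * b + c * d) - (g + a * e + c * f) = a * (b - e) + c * (d - f)
        from fun _ _ _ _ _ _ _ => by ring, pow_succ']
    exact add_mem (Ideal.mul_mem_mul (hJ 0) (ih G)) (Ideal.mul_mem_mul (hJ 1) (ih H))

theorem ps_hom_ext {T : Type v} [CommRing T] [Algebra k T] (J : Ideal T) [IsHausdorff J T]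
    {φ ψ : PowerSeries k →ₐ[k] T} (h : φ PowerSeries.X = ψ PowerSeries.X)
    (hJ : φ PowerSeries.X ∈ J) : φ = ψ := by
  refine AlgHom.ext fun F => eq_of_forall_mem J fun n => ?_
  induction n generalizing F with
  | zero => simp
  | succ n ih =>
    have hC : (PowerSeries.C (PowerSeries.constantCoeff F) : PowerSeries k) =
        algebraMap k (PowerSeries k) (PowerSeries.constantCoeff F) := by
      simp [PowerSeries.algebraMap_apply]
    rw [PowerSeries.eq_X_mul_shift_add_const F, hC, map_add, map_add, map_mul, map_mul,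
      AlgHom.commutes, AlgHom.commutes, ← h, add_sub_add_right_eq_sub, ← mul_sub, pow_succ']
    exact Ideal.mul_mem_mul hJ (ih _)

theorem constantCoeff_eqn : MvPowerSeries.constantCoeff (ArSing.eqn k r) = 0 := by
  simp [ArSing.eqn]

instance nontrivial_ring : Nontrivial (ArSing.ring k r) := by
  refine Ideal.Quotient.nontrivial_iff.2 fun h => ?_
  rw [Ideal.span_singleton_eq_top, MvPowerSeries.isUnit_iff_constantCoeff, constantCoeff_eqn] at h
  exact not_isUnit_zero h

instance isLocalRing_ring : IsLocalRing (ArSing.ring k r) :=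
  IsLocalRing.of_surjective' (Ideal.Quotient.mk _) Ideal.Quotient.mk_surjective

/-- The constant coefficient. -/
noncomputable def cst : ArSing.ring k r →ₐ[k] k :=
  Ideal.Quotient.liftₐ _
    { MvPowerSeries.constantCoeff with
      commutes' := fun c => by simp [MvPowerSeries.algebraMap_apply] }
    fun a ha => by
      obtain ⟨b, rfl⟩ := Ideal.mem_span_singleton'.1 ha
      show MvPowerSeries.constantCoeff (b * ArSing.eqn k r) = 0
      rw [map_mul, constantCoeff_eqn, mul_zero]

theorem cst_mk (F : P) : cst (Ideal.Quotient.mk (Ideal.span {ArSing.eqn k r}) F) =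
    MvPowerSeries.constantCoeff F := rfl

@[simp] theorem cst_x : cst (ArSing.x k r) = 0 := by simp [cst_mk]

@[simp] theorem cst_y : cst (ArSing.y k r) = 0 := by simp [cst_mk]

theorem decomp (a : ArSing.ring k r) : ∃ G H : ArSing.ring k r,
    a = algebraMap k (ArSing.ring k r) (cst a) + ArSing.x k r * G + ArSing.y k r * H := by
  obtain ⟨F, rfl⟩ := Ideal.Quotient.mk_surjective a
  obtain ⟨G, H, hF⟩ := mv_decomp F
  refine ⟨Ideal.Quotient.mk _ G, Ideal.Quotient.mk _ H, ?_⟩
  conv_lhs => rw [hF]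
  rw [map_add, map_add, map_mul, map_mul, mv_C_eq, cst_mk, Ideal.Quotient.mk_algebraMap]

theorem isUnit_iff {a : ArSing.ring k r} : IsUnit a ↔ cst a ≠ 0 := by
  refine ⟨fun h => (h.map cst).ne_zero, fun h => ?_⟩
  obtain ⟨F, rfl⟩ := Ideal.Quotient.mk_surjective a
  exact (MvPowerSeries.isUnit_iff_constantCoeff.2 (isUnit_iff_ne_zero.2 h)).map _

theorem mem_maximalIdeal_iff {a : ArSing.ring k r} :
    a ∈ maximalIdeal (ArSing.ring k r) ↔ cst a = 0 := by
  rw [mem_maximalIdeal, mem_nonunits_iff, isUnit_iff, not_not]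

theorem maximalIdeal_eq :
    maximalIdeal (ArSing.ring k r) = Ideal.span {ArSing.x k r, ArSing.y k r} := by
  refine le_antisymm (fun a ha => ?_) (Ideal.span_le.2 ?_)
  · obtain ⟨G, H, hGH⟩ := decomp a
    rw [hGH, mem_maximalIdeal_iff.1 ha, map_zero, zero_add]
    exact add_mem (Ideal.mul_mem_right _ _ (Ideal.subset_span (Or.inl rfl)))
      (Ideal.mul_mem_right _ _ (Ideal.subset_span (Or.inr rfl)))
  · rintro a (rfl | rfl) <;> exact mem_maximalIdeal_iff.2 (by simp)

theorem hom_ext {T : Type v} [CommRing T] [Algebra k T] (J : Ideal T) [IsHausdorff J T]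
    {φ ψ : ArSing.ring k r →ₐ[k] T} (hx : φ (ArSing.x k r) = ψ (ArSing.x k r))
    (hy : φ (ArSing.y k r) = ψ (ArSing.y k r)) (hxJ : φ (ArSing.x k r) ∈ J)
    (hyJ : φ (ArSing.y k r) ∈ J) : φ = ψ := by
  refine Ideal.Quotient.algHom_ext k (mv_hom_ext J (fun i => ?_) fun i => ?_)
  · fin_cases i
    · exact hx
    · exact hy
  · fin_cases i
    · exact hxJ
    · exact hyJ

theorem exists_hom (a b : ArSing.ring k r') (ha : cst a = 0) (hb : cst b = 0) (h : b ^ 2 = a ^ (r + 1)) :
    ∃ φ : ArSing.ring k r →ₐ[k] ArSing.ring k r', φ (ArSing.x k r) = a ∧ φ (ArSing.y k r) = b := by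
  obtain ⟨F, rfl⟩ := Ideal.Quotient.mk_surjective a
  obtain ⟨G, rfl⟩ := Ideal.Quotient.mk_surjective b
  have hs : MvPowerSeries.HasSubst ![F, G] := MvPowerSeries.hasSubst_of_constantCoeff_zero fun i => by
    fin_cases i
    · exact ha
    · exact hb
  let Φ : P →ₐ[k] ArSing.ring k r' := (Ideal.Quotient.mkₐ k _).comp (MvPowerSeries.substAlgHom hs)
  have hX : ∀ i, Φ (MvPowerSeries.X i) = Ideal.Quotient.mk _ (![F, G] i) := fun i => by
    simp [Φ, MvPowerSeries.subst_X hs]
  have hΦ : ∀ z ∈ Ideal.span {ArSing.eqn k r}, Φ z = 0 := by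
    intro z hz
    obtain ⟨c, rfl⟩ := Ideal.mem_span_singleton'.1 hz
    rw [map_mul, show ArSing.eqn k r = MvPowerSeries.X 1 ^ 2 - MvPowerSeries.X 0 ^ (r + 1) from rfl,
      map_sub, map_pow, map_pow, hX, hX]
    simp [h]
  refine ⟨Ideal.Quotient.liftₐ _ Φ hΦ, ?_, ?_⟩
  · simp [ArSing.x, hX]
  · simp [ArSing.y, hX]

theorem surjective_of_gen (φ : ArSing.ring k r →ₐ[k] ArSing.ring k r')
    (h : maximalIdeal (ArSing.ring k r') = Ideal.span {φ (ArSing.x k r), φ (ArSing.y k r)}) :
    Function.Surjective φ := by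
  let Φ : P →+* ArSing.ring k r' := φ.toRingHom.comp (Ideal.Quotient.mk _)
  have hI : (Ideal.span (Set.range (MvPowerSeries.X : Fin 2 → P))).map Φ =
      maximalIdeal (ArSing.ring k r') := by
    rw [Ideal.map_span, h, ← Set.range_comp]
    congr 1
    ext z
    simp [Φ, Fin.exists_fin_two, eq_comm]
  have : IsHausdorff ((Ideal.span (Set.range (MvPowerSeries.X : Fin 2 → P))).map Φ)
      (ArSing.ring k r') := by
    rw [hI]; infer_instance
  have hs : Function.Surjective Φ := by
    refine surjective_of_mk_map_comp_surjective Φ (I := Ideal.span (Set.range MvPowerSeries.X)) ?_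
    intro z
    obtain ⟨a, rfl⟩ := Ideal.Quotient.mk_surjective z
    refine ⟨MvPowerSeries.C (cst a), ?_⟩
    rw [RingHom.comp_apply, Ideal.Quotient.eq, hI, mem_maximalIdeal_iff]
    simp [Φ, mv_C_eq, Ideal.Quotient.mk_algebraMap]
  intro z
  obtain ⟨F, hF⟩ := hs z
  exact ⟨_, hF⟩

/-- A surjective endomorphism of a Noetherian ring is injective. -/
theorem injective_of_surjective_endo {R : Type v} [CommRing R] [IsNoetherianRing R] (f : R →+* R)
    (hf : Function.Surjective f) : Function.Injective f := by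
  let K : ℕ → Ideal R := fun n => Nat.rec ⊥ (fun _ I => I.comap f) n
  have hK : ∀ n x, x ∈ K n ↔ f^[n] x = 0 := by
    intro n
    induction n with
    | zero => intro x; simp [K]
    | succ n ih => intro x; rw [Function.iterate_succ_apply, ← ih]; rfl
  have hmono : Monotone K := monotone_nat_of_le_succ fun n x hx => by
    refine (hK (n + 1) x).2 ?_
    rw [Function.iterate_succ_apply', (hK n x).1 hx, map_zero]
  obtain ⟨n, hn⟩ := monotone_stabilizes_iff_noetherian.2 (inferInstanceAs (IsNoetherian R R)) ⟨K, hmono⟩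
  rw [injective_iff_map_eq_zero]
  intro x hx
  obtain ⟨z, rfl⟩ := hf.iterate n x
  have h1 : z ∈ K (n + 1) := (hK (n + 1) z).2 (by rw [Function.iterate_succ_apply', hx])
  rw [← show K n = K (n + 1) from hn (n + 1) (Nat.le_succ n)] at h1
  exact (hK _ _).1 h1

/-- The automorphism with prescribed values on the generators. -/
theorem exists_aut (a b : ArSing.ring k r) (h : b ^ 2 = a ^ (r + 1))
    (hgen : maximalIdeal (ArSing.ring k r) = Ideal.span {a, b}) :
    ∃ φ : ArSing.ring k r ≃ₐ[k] ArSing.ring k r, φ (ArSing.x k r) = a ∧ φ (ArSing.y k r) = b := by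
  have ha : cst a = 0 := mem_maximalIdeal_iff.1 (hgen ▸ Ideal.subset_span (Or.inl rfl))
  have hb : cst b = 0 := mem_maximalIdeal_iff.1 (hgen ▸ Ideal.subset_span (Or.inr rfl))
  obtain ⟨φ, hφx, hφy⟩ := exists_hom (r := r) a b ha hb h
  have hs := surjective_of_gen φ (by rw [hφx, hφy]; exact hgen)
  exact ⟨AlgEquiv.ofBijective φ ⟨injective_of_surjective_endo φ.toRingHom hs, hs⟩, hφx, hφy⟩

@[simp] theorem xMap_X : ArSing.xMap k r PowerSeries.X = ArSing.x k r := by
  simp [ArSing.xMap, PowerSeries.substAlgHom_X]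

theorem cst_xMap (f : PowerSeries k) : cst (ArSing.xMap k r f) = PowerSeries.constantCoeff f := by
  have hC : (PowerSeries.C (PowerSeries.constantCoeff f) : PowerSeries k) =
      algebraMap k (PowerSeries k) (PowerSeries.constantCoeff f) := by
    simp [PowerSeries.algebraMap_apply]
  conv_lhs => rw [PowerSeries.eq_X_mul_shift_add_const f, hC]
  rw [map_add, map_mul, AlgHom.commutes, map_add, map_mul, xMap_X, cst_x, zero_mul, zero_add,
    AlgHom.commutes]
  rfl

end Groth.Agent.ArSingLib
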