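import Groth.Agent.ArSingLib.Node

/-! # Tools for the fixed rings of involutions of `A_r`-singularities -/

universe u

open IsLocalRing

namespace Groth.Agent.ArSingLib

variable {k : Type u} [Field k] {r r' : ℕ}

theorem rescale_alg_X (c : k) :
    PowerSeries.rescaleAlgHom c PowerSeries.X = algebraMap k (PowerSeries k) c * PowerSeries.X := by
  change (PowerSeries.rescaleAlgHom c : PowerSeries k →+* PowerSeries k) PowerSeries.X = _
  rw [PowerSeries.coe_rescaleAlgHom, PowerSeries.rescale_X, PowerSeries.algebraMap_apply]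
  rfl

theorem coeff_rescale_alg (c : k) (f : PowerSeries k) (n : ℕ) :
    PowerSeries.coeff n (PowerSeries.rescaleAlgHom c f) = c ^ n * PowerSeries.coeff n f := by
  change PowerSeries.coeff n ((PowerSeries.rescaleAlgHom c : PowerSeries k →+* PowerSeries k) f) = _
  rw [PowerSeries.coe_rescaleAlgHom, PowerSeries.coeff_rescale]

/-- Even and odd part. -/
theorem parity (f : PowerSeries k) : ∃ g h : PowerSeries k,
    f = PowerSeries.expand 2 two_ne_zero g + PowerSeries.X * PowerSeries.expand 2 two_ne_zero h := by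
  refine ⟨PowerSeries.mk fun n => PowerSeries.coeff (2 * n) f,
    PowerSeries.mk fun n => PowerSeries.coeff (2 * n + 1) f, PowerSeries.ext fun n => ?_⟩
  rw [map_add]
  rcases n with _ | n
  · simp
  rw [PowerSeries.coeff_succ_X_mul, PowerSeries.coeff_expand, PowerSeries.coeff_expand]
  rcases Nat.even_or_odd' n with ⟨j, rfl | rfl⟩
  · rw [if_neg (by omega), if_pos (by omega), PowerSeries.coeff_mk, zero_add]
    congr 2
    omega
  · rw [if_pos (by omega), if_neg (by omega), PowerSeries.coeff_mk, add_zero]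
    congr 2
    omega

theorem rescale_neg_expand (g : PowerSeries k) :
    PowerSeries.rescaleAlgHom (-1 : k) (PowerSeries.expand 2 two_ne_zero g) =
      PowerSeries.expand 2 two_ne_zero g := by
  ext n
  rw [coeff_rescale_alg, PowerSeries.coeff_expand]
  split_ifs with h
  · rw [(even_iff_two_dvd.2 h).neg_one_pow, one_mul]
  · rw [mul_zero]

theorem parity_unique {g h : PowerSeries k} (h2 : (2 : k) ≠ 0)
    (e : PowerSeries.expand 2 two_ne_zero g + PowerSeries.X * PowerSeries.expand 2 two_ne_zero h = 0) :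
    g = 0 ∧ h = 0 := by
  have e' := congrArg (PowerSeries.rescaleAlgHom (-1 : k)) e
  rw [map_add, map_mul, rescale_neg_expand, rescale_neg_expand, rescale_alg_X, map_zero, map_neg,
    map_one, neg_one_mul, neg_mul] at e'
  constructor
  · exact expand_injective (by
      rw [map_zero]
      exact mul_left_cancel₀ (two_ne_zero_ps h2) (by linear_combination e + e'))
  · exact expand_injective (by
      rw [map_zero]
      exact mul_left_cancel₀ (PowerSeries.X_ne_zero)
        (mul_left_cancel₀ (two_ne_zero_ps h2) (by linear_combination e - e')))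

theorem even_series (h2 : (2 : k) ≠ 0) {f : PowerSeries k}
    (hf : PowerSeries.rescaleAlgHom (-1 : k) f = f) :
    ∃ g, f = PowerSeries.expand 2 two_ne_zero g := by
  obtain ⟨g, h, e⟩ := parity f
  refine ⟨g, ?_⟩
  rw [e, map_add, map_mul, rescale_neg_expand, rescale_neg_expand, rescale_alg_X, map_neg, map_one,
    neg_one_mul, neg_mul] at hf
  have h0 : h = 0 := (parity_unique h2 (g := 0) (h := h) (by
    rw [map_zero, zero_add]
    exact mul_left_cancel₀ (two_ne_zero_ps h2) (by linear_combination -hf))).2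
  rw [e, h0, map_zero, mul_zero, add_zero]

theorem odd_series (h2 : (2 : k) ≠ 0) {f : PowerSeries k}
    (hf : PowerSeries.rescaleAlgHom (-1 : k) f = -f) :
    ∃ g, f = PowerSeries.X * PowerSeries.expand 2 two_ne_zero g := by
  obtain ⟨g, h, e⟩ := parity f
  refine ⟨h, ?_⟩
  rw [e, map_add, map_mul, rescale_neg_expand, rescale_neg_expand, rescale_alg_X, map_neg, map_one,
    neg_one_mul, neg_mul] at hf
  have h0 : g = 0 := (parity_unique h2 (g := g) (h := 0) (by
    rw [map_zero, mul_zero, add_zero]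
    exact mul_left_cancel₀ (two_ne_zero_ps h2) (by linear_combination hf))).1
  rw [e, h0, map_zero, zero_add]

theorem cst_hom (φ : ArSing.ring k r →ₐ[k] ArSing.ring k r') (hx : cst (φ (ArSing.x k r)) = 0)
    (hy : cst (φ (ArSing.y k r)) = 0) (a : ArSing.ring k r) : cst (φ a) = cst a :=
  DFunLike.congr_fun (hom_ext (⊥ : Ideal k) (φ := cst.comp φ) (ψ := cst)
    (by simpa using hx) (by simpa using hy) (by simpa using hx) (by simpa using hy)) a

/-- Action on `k[[x]]` of a map sending `x` to `F(x)`. -/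
theorem hom_xMap (φ : ArSing.ring k r →ₐ[k] ArSing.ring k r') (ν : PowerSeries k →ₐ[k] PowerSeries k)
    (h : φ (ArSing.x k r) = ArSing.xMap k r' (ν PowerSeries.X))
    (hν : PowerSeries.constantCoeff (ν PowerSeries.X) = 0) (f : PowerSeries k) :
    φ (ArSing.xMap k r f) = ArSing.xMap k r' (ν f) := by
  refine DFunLike.congr_fun (ps_hom_ext (maximalIdeal (ArSing.ring k r'))
    (φ := φ.comp (ArSing.xMap k r)) (ψ := (ArSing.xMap k r').comp ν) ?_ ?_) f
  · simpa using h
  · show φ (ArSing.xMap k r PowerSeries.X) ∈ _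
    rw [mem_maximalIdeal_iff, xMap_X, h, cst_xMap, hν]

theorem sigma_coords (h2 : (2 : k) ≠ 0) (σ : ArSing.ring k r ≃ₐ[k] ArSing.ring k r) (s q : k)
    (hx : σ (ArSing.x k r) = algebraMap k _ s * ArSing.x k r)
    (hy : σ (ArSing.y k r) = algebraMap k _ q * ArSing.y k r) (a : ArSing.ring k r) :
    re (σ a) = PowerSeries.rescaleAlgHom s (re a) ∧
      im (σ a) = algebraMap k _ q * PowerSeries.rescaleAlgHom s (im a) := by
  have e' := hom_xMap σ.toAlgHom (PowerSeries.rescaleAlgHom s) (r := r) (r' := r)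
    (by rw [rescale_alg_X, map_mul, AlgHom.commutes, xMap_X]; exact hx)
    (by rw [rescale_alg_X, map_mul, PowerSeries.constantCoeff_X, mul_zero])
  have e : ∀ f, σ (ArSing.xMap k r f) = ArSing.xMap k r (PowerSeries.rescaleAlgHom s f) := e'
  refine re_im_eq h2 ?_
  conv_lhs => rw [re_add_im a]
  rw [map_add, map_mul, e, e, hy, map_mul, AlgHom.commutes]
  ring

theorem length_residue (I : Ideal (ArSing.ring k r)) (hI : I.IsMaximal) :
    Module.length (ArSing.ring k r) (ArSing.ring k r ⧸ I) = 1 := by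
  haveI : IsSimpleModule (ArSing.ring k r) (ArSing.ring k r ⧸ I) :=
    isSimpleModule_iff_quot_maximal.2 ⟨I, hI, ⟨LinearEquiv.refl _ _⟩⟩
  exact Module.length_eq_one _ _

theorem span_max : (Ideal.span {ArSing.x k r, ArSing.y k r}).IsMaximal :=
  maximalIdeal_eq (k := k) (r := r) ▸ maximalIdeal.isMaximal _

theorem x_mem_nonZeroDivisors (h2 : (2 : k) ≠ 0) :
    ArSing.x k r ∈ nonZeroDivisors (ArSing.ring k r) := by
  rw [mem_nonZeroDivisors_iff_right]
  intro a ha
  obtain ⟨e1, e2⟩ := re_im_mul h2 a (ArSing.x k r)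
  rw [ha, (re_im_x h2).1, (re_im_x h2).2, ← map_zero (ArSing.xMap k r)] at e1 e2
  rw [(re_im_xMap h2 _).1, mul_zero, mul_zero, add_zero] at e1
  rw [(re_im_xMap h2 _).2, mul_zero, zero_add] at e2
  rw [re_add_im a, (mul_eq_zero.1 e1.symm).resolve_right PowerSeries.X_ne_zero,
    (mul_eq_zero.1 e2.symm).resolve_right PowerSeries.X_ne_zero]
  simp

theorem x_ne_zero (h2 : (2 : k) ≠ 0) : ArSing.x k r ≠ 0 :=
  nonZeroDivisors.ne_zero (x_mem_nonZeroDivisors h2)

end Groth.Agent.ArSingLib
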