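import Groth.Agent.ArSingLib.Repr

/-! # Involutions of the algebras of `A_r`-singularities -/

universe u

open IsLocalRing

namespace Groth.Agent.ArSingLib

variable {k : Type u} [Field k] {r : ℕ}

theorem isUnit_two (h2 : (2 : k) ≠ 0) : IsUnit (2 : ArSing.ring k r) := by
  rw [← map_ofNat (algebraMap k (ArSing.ring k r)) 2]
  exact (isUnit_iff_ne_zero.2 h2).map _

theorem exists_sqrt [IsAlgClosed k] (h2 : (2 : k) ≠ 0) {e : ArSing.ring k r} (he : IsUnit e) :
    ∃ w : ArSing.ring k r, IsUnit w ∧ w ^ 2 = e := by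
  obtain ⟨E, rfl⟩ := Ideal.Quotient.mk_surjective e
  have hE : MvPowerSeries.constantCoeff E ≠ 0 := isUnit_iff.1 he
  obtain ⟨c, hc⟩ := IsAlgClosed.exists_pow_nat_eq (MvPowerSeries.constantCoeff E) two_pos
  have hc0 : c ≠ 0 := fun h => hE (by rw [← hc, h]; simp)
  have hI : ∀ F : MvPowerSeries (Fin 2) k, MvPowerSeries.constantCoeff F = 0 →
      F ∈ Ideal.span (Set.range (MvPowerSeries.X : Fin 2 → MvPowerSeries (Fin 2) k)) := by
    intro F hF
    obtain ⟨G, H, h⟩ := mv_decomp F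
    rw [h, hF, map_zero, zero_add]
    exact add_mem (Ideal.mul_mem_right _ _ (Ideal.subset_span ⟨0, rfl⟩))
      (Ideal.mul_mem_right _ _ (Ideal.subset_span ⟨1, rfl⟩))
  obtain ⟨w, hw, -⟩ := HenselianRing.is_henselian
    (I := Ideal.span (Set.range (MvPowerSeries.X : Fin 2 → MvPowerSeries (Fin 2) k)))
    (Polynomial.X ^ 2 - Polynomial.C E) (Polynomial.monic_X_pow_sub_C E two_ne_zero)
    (MvPowerSeries.C c) (hI _ (by simp [hc])) (by
      refine IsUnit.map _ (MvPowerSeries.isUnit_iff_constantCoeff.2 ?_)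
      simpa [Polynomial.derivative_X_pow, MvPowerSeries.constantCoeff_C] using
        mul_ne_zero (show (1 + 1 : k) ≠ 0 by rwa [one_add_one_eq_two]) hc0)
  rw [Polynomial.IsRoot.def, Polynomial.eval_sub, Polynomial.eval_pow, Polynomial.eval_X,
    Polynomial.eval_C, sub_eq_zero] at hw
  have hww : (Ideal.Quotient.mk (Ideal.span {ArSing.eqn k r}) w) ^ 2 =
      Ideal.Quotient.mk (Ideal.span {ArSing.eqn k r}) E := by rw [← map_pow, hw]
  exact ⟨_, (isUnit_pow_iff two_ne_zero).1 (by rw [hww]; exact he), hww⟩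

theorem cst_alg (σ : ArSing.ring k r ≃ₐ[k] ArSing.ring k r) (a : ArSing.ring k r) :
    cst (σ a) = cst a := by
  haveI : IsHausdorff (⊥ : Ideal k) k := inferInstance
  have hz : ∀ z, cst z = 0 → cst (σ z) = 0 := fun z hz => by
    by_contra h
    have h1 := (isUnit_iff.2 h).map σ.symm
    rw [AlgEquiv.symm_apply_apply] at h1
    exact isUnit_iff.1 h1 hz
  refine DFunLike.congr_fun (hom_ext (⊥ : Ideal k) (φ := cst.comp σ.toAlgHom) (ψ := cst) ?_ ?_ ?_ ?_) a
  · simpa using hz _ cst_x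
  · simpa using hz _ cst_y
  · simpa using hz _ cst_x
  · simpa using hz _ cst_y

theorem eq_refl_of_fix (σ : ArSing.ring k r ≃ₐ[k] ArSing.ring k r)
    (hx : σ (ArSing.x k r) = ArSing.x k r) (hy : σ (ArSing.y k r) = ArSing.y k r) :
    σ = AlgEquiv.refl := by
  refine AlgEquiv.ext fun a => DFunLike.congr_fun (hom_ext (maximalIdeal (ArSing.ring k r))
    (φ := σ.toAlgHom) (ψ := AlgHom.id k _) hx hy ?_ ?_) a
  · exact mem_maximalIdeal_iff.2 ((cst_alg σ _).trans cst_x)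
  · exact mem_maximalIdeal_iff.2 ((cst_alg σ _).trans cst_y)

/-- An involution which maps `x` to `± x` maps `y` to `± y`. -/
theorem classify (h2 : (2 : k) ≠ 0) (τ : ArSing.ring k r ≃ₐ[k] ArSing.ring k r) (hτ : ∀ a, τ (τ a) = a)
    (hx : τ (ArSing.x k r) = ArSing.x k r ∨ τ (ArSing.x k r) = -ArSing.x k r) :
    (τ (ArSing.x k r) = ArSing.x k r ∨ Odd r ∧ τ (ArSing.x k r) = -ArSing.x k r) ∧
      (τ (ArSing.y k r) = ArSing.y k r ∨ τ (ArSing.y k r) = -ArSing.y k r) := by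
  obtain ⟨s, hs, hxs⟩ : ∃ s : k, (s = 1 ∨ s = -1) ∧
      τ (ArSing.x k r) = algebraMap k _ s * ArSing.x k r := by
    rcases hx with h | h
    · exact ⟨1, Or.inl rfl, by simp [h]⟩
    · exact ⟨-1, Or.inr rfl, by rw [h, map_neg, map_one]; ring⟩
  let ρ : PowerSeries k →ₐ[k] PowerSeries k := PowerSeries.rescaleAlgHom s
  have hρX : ρ PowerSeries.X = algebraMap k _ s * PowerSeries.X := by
    change (PowerSeries.rescaleAlgHom s : PowerSeries k →+* PowerSeries k) PowerSeries.X = _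
    rw [PowerSeries.coe_rescaleAlgHom, PowerSeries.rescale_X, PowerSeries.algebraMap_apply]
    rfl
  have hcomp : ∀ f, τ (ArSing.xMap k r f) = ArSing.xMap k r (ρ f) := by
    intro f
    refine DFunLike.congr_fun (ps_hom_ext (maximalIdeal (ArSing.ring k r))
      (φ := τ.toAlgHom.comp (ArSing.xMap k r)) (ψ := (ArSing.xMap k r).comp ρ) ?_ ?_) f
    · show τ (ArSing.xMap k r PowerSeries.X) = ArSing.xMap k r (ρ PowerSeries.X)
      rw [hρX, map_mul, AlgHom.commutes, xMap_X, hxs]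
    · show τ (ArSing.xMap k r PowerSeries.X) ∈ _
      rw [mem_maximalIdeal_iff, cst_alg, xMap_X, cst_x]
  set F := re (τ (ArSing.y k r)) with hF
  set G := im (τ (ArSing.y k r)) with hG
  have hsq : τ (ArSing.y k r) * τ (ArSing.y k r) =
      ArSing.xMap k r (algebraMap k _ (s ^ (r + 1)) * PowerSeries.X ^ (r + 1)) := by
    rw [← map_mul, ← sq, y_sq, map_pow, hxs]
    simp only [map_mul, map_pow, AlgHom.commutes, xMap_X, mul_pow]
  obtain ⟨e1, e2⟩ := re_im_mul h2 (τ (ArSing.y k r)) (τ (ArSing.y k r))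
  rw [hsq, (re_im_xMap h2 _).1, ← hF, ← hG] at e1
  rw [hsq, (re_im_xMap h2 _).2, ← hF, ← hG] at e2
  have hG0 : G ≠ 0 := by
    intro h0
    have h1 : ArSing.y k r = ArSing.xMap k r (ρ F) := by
      conv_lhs => rw [← hτ (ArSing.y k r), re_add_im (τ (ArSing.y k r)), ← hG, ← hF, h0]
      simp [hcomp]
    have := congrArg im h1
    rw [(re_im_y h2).2, (re_im_xMap h2 _).2] at this
    exact one_ne_zero this
  have hF0 : F = 0 := by
    have h : (2 : PowerSeries k) * (F * G) = 0 := by linear_combination -e2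
    rcases mul_eq_zero.1 ((mul_eq_zero.1 h).resolve_left (two_ne_zero_ps h2)) with h | h
    · exact h
    · exact absurd h hG0
  have hG2 : G * G = algebraMap k _ (s ^ (r + 1)) := by
    refine mul_left_cancel₀ (pow_ne_zero (r + 1) (PowerSeries.X_ne_zero (R := k))) ?_
    rw [hF0] at e1
    linear_combination -e1
  obtain ⟨q, hq⟩ : ∃ q : k, G = algebraMap k _ q := by
    have hc := congrArg PowerSeries.constantCoeff hG2
    rw [map_mul, show ∀ z : k, PowerSeries.constantCoeff (algebraMap k (PowerSeries k) z) = z from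
      fun z => by simp [PowerSeries.algebraMap_apply]] at hc
    rw [← hc, map_mul] at hG2
    rcases mul_self_eq_mul_self_iff.1 hG2 with h | h
    · exact ⟨_, h⟩
    · exact ⟨_, h.trans (map_neg _ _).symm⟩
  have hy : τ (ArSing.y k r) = algebraMap k _ q * ArSing.y k r := by
    rw [re_add_im (τ (ArSing.y k r)), ← hF, ← hG, hF0, hq, map_zero, zero_add, AlgHom.commutes]
  have hqq : q * q = 1 := by
    have h1 := hτ (ArSing.y k r)
    rw [hy, map_mul, AlgEquiv.commutes, hy, ← mul_assoc, ← map_mul,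
      ← AlgHom.commutes (ArSing.xMap k r)] at h1
    have h3 := (re_im_eq h2 (a := ArSing.y k r) (f := 0)
      (g := algebraMap k (PowerSeries k) (q * q)) (by rw [map_zero, zero_add, h1])).2
    rw [(re_im_y h2).2] at h3
    simpa [PowerSeries.algebraMap_apply] using (congrArg PowerSeries.constantCoeff h3).symm
  refine ⟨?_, ?_⟩
  · rcases hs with rfl | rfl
    · left; simpa using hxs
    · refine Or.inr ⟨?_, by rw [hxs, map_neg, map_one]; ring⟩
      rw [hq, ← map_mul, hqq] at hG2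
      have h3 : (1 : k) = (-1 : k) ^ (r + 1) := by
        simpa [PowerSeries.algebraMap_apply] using congrArg PowerSeries.constantCoeff hG2
      rcases Nat.even_or_odd r with he | ho
      · rw [pow_succ, he.neg_one_pow, one_mul] at h3
        exact absurd (by linear_combination h3 : (2 : k) = 0) h2
      · exact ho
  · rcases mul_self_eq_one_iff.1 hqq with rfl | rfl
    · left; simpa using hy
    · right; rw [hy, map_neg, map_one]; ring

theorem pow_expand {A : Type*} [CommRing A] (J : Ideal A) {a b : A} (ha : a ∈ J) (hb : b ∈ J) :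
    ∀ n : ℕ, 3 ≤ n → ∃ C ∈ J, (a + b) ^ n = a ^ n + (n : A) * a ^ (n - 1) * b + C * b ^ 2 := by
  intro n hn
  induction n, hn using Nat.le_induction with
  | base => exact ⟨3 * a + b, add_mem (J.mul_mem_left _ ha) hb, by push_cast; ring⟩
  | succ n hn ih =>
    obtain ⟨C, hC, h⟩ := ih
    obtain ⟨j, rfl⟩ : ∃ j, n = j + 2 := ⟨n - 2, by omega⟩
    refine ⟨((j + 2 : ℕ) : A) * a ^ (j + 1) + C * (a + b),
      add_mem (J.mul_mem_left _ (J.pow_mem_of_mem ha _ (by omega))) (J.mul_mem_right _ hC), ?_⟩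
    rw [pow_succ (a + b), h, show j + 2 + 1 - 1 = j + 2 from rfl, show j + 2 - 1 = j + 1 from rfl]
    push_cast
    ring

theorem quad_aux {A : Type*} [CommRing A] (y u c b C m : A) (n : ℕ) (v : Aˣ)
    (hv : (v : A) = 1 - C * b ^ 2)
    (h : y ^ 2 = c ^ (n + 1) * u ^ (n + 1) + m * (c ^ n * u ^ n) * (b * y) + C * (b ^ 2 * y ^ 2)) :
    ∃ A1 B1 : A, A1 = c ^ (n + 1) * ↑v⁻¹ ∧ y ^ 2 = A1 * u ^ (n + 1) + B1 * u ^ n * y := by
  refine ⟨_, m * c ^ n * b * ↑v⁻¹, rfl, v.isUnit.mul_left_cancel ?_⟩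
  have hvv : (v : A) * ↑v⁻¹ = 1 := v.mul_inv
  linear_combination h + y ^ 2 * hv -
    (c ^ (n + 1) * u ^ (n + 1) + m * c ^ n * b * u ^ n * y) * hvv

theorem square_aux {A : Type*} [CommRing A] (y u a b : A) (j : ℕ) (t : Aˣ) (ht : (t : A) = 2)
    (h : y ^ 2 = a * u ^ (j + 2 + 1) + b * u ^ (j + 2) * y) :
    (y - u ^ (j + 2) * b * ↑t⁻¹) ^ 2 = u ^ (j + 2 + 1) * (a + u ^ (j + 1) * (b * ↑t⁻¹) ^ 2) := by
  have htt : (2 : A) * ↑t⁻¹ = 1 := by rw [← ht, Units.mul_inv]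
  linear_combination h - b * u ^ (j + 2) * y * htt

/-- Change of coordinates in an abstract double point. -/
theorem exists_coord {A : Type*} [CommRing A] [IsLocalRing A] {j : ℕ} (h2u : IsUnit (2 : A))
    (hsqrt : ∀ e : A, IsUnit e → ∃ w : A, IsUnit w ∧ w ^ 2 = e) (x y u α β : A)
    (hyx : y ^ 2 = x ^ (j + 2 + 1)) (hu : u = α * x + β * y) (hα : IsUnit α)
    (hum : u ∈ maximalIdeal A) (hm : maximalIdeal A = Ideal.span {x, y}) :
    ∃ w : A, w ^ 2 = u ^ (j + 2 + 1) ∧ maximalIdeal A = Ideal.span {u, w} := by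
  obtain ⟨α, rfl⟩ := hα
  have hym : y ∈ maximalIdeal A := hm ▸ Ideal.subset_span (Or.inr rfl)
  have hxe : x = ↑α⁻¹ * u + (-(↑α⁻¹ * β) * y) := by
    rw [hu, mul_add, ← mul_assoc, Units.inv_mul, one_mul]
    ring
  obtain ⟨C, hC, hpow⟩ := pow_expand (maximalIdeal A) (a := ↑α⁻¹ * u) (b := -(↑α⁻¹ * β) * y)
    (Ideal.mul_mem_left _ _ hum) (Ideal.mul_mem_left _ _ hym) (j + 2 + 1) (by omega)
  rw [← hxe, ← hyx, Nat.add_sub_cancel, mul_pow, mul_pow, mul_pow] at hpow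
  obtain ⟨v, hv⟩ : IsUnit (1 - C * (-(↑α⁻¹ * β : A)) ^ 2) :=
    IsLocalRing.isUnit_one_sub_self_of_mem_nonunits _
      ((mem_maximalIdeal _).1 (Ideal.mul_mem_right _ _ hC))
  obtain ⟨A1, B1, hA1, hysq⟩ := quad_aux _ _ _ _ _ _ (j + 2) v hv hpow
  obtain ⟨t, ht⟩ := h2u
  have hA1u : IsUnit A1 := by rw [hA1]; exact (α⁻¹.isUnit.pow _).mul v⁻¹.isUnit
  have heu : IsUnit (A1 + u ^ (j + 1) * (B1 * ↑t⁻¹) ^ 2) := by
    by_contra h
    refine (mem_maximalIdeal _).1 ?_ hA1u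
    have h' := (mem_maximalIdeal _).2 h
    exact (Ideal.add_mem_iff_left _
      (Ideal.mul_mem_right ((B1 * ↑t⁻¹) ^ 2) _ (Ideal.pow_mem_of_mem _ hum (j + 1) (by omega)))).1 h'
  obtain ⟨w, ⟨w, rfl⟩, hw⟩ := hsqrt _ heu
  have hsq := square_aux _ _ _ _ j t ht hysq
  refine ⟨(y - u ^ (j + 2) * B1 * ↑t⁻¹) * ↑w⁻¹, ?_, ?_⟩
  · rw [mul_pow, hsq, ← hw, mul_assoc, ← mul_pow, Units.mul_inv, one_pow, mul_one]
  have hy : y ∈ Ideal.span {u, (y - u ^ (j + 2) * B1 * ↑t⁻¹) * ↑w⁻¹} := by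
    have e : y = ((y - u ^ (j + 2) * B1 * ↑t⁻¹) * ↑w⁻¹) * ↑w + u * (u ^ (j + 1) * B1 * ↑t⁻¹) := by
      rw [mul_assoc _ (↑w⁻¹ : A), Units.inv_mul]; ring
    conv => arg 2; rw [e]
    exact add_mem (Ideal.mul_mem_right _ _ (Ideal.subset_span (Or.inr rfl)))
      (Ideal.mul_mem_right _ _ (Ideal.subset_span (Or.inl rfl)))
  refine le_antisymm (hm.le.trans (Ideal.span_le.2 ?_)) (Ideal.span_le.2 ?_)
  · rintro z (rfl | rfl)
    · rw [SetLike.mem_coe, hxe]
      exact add_mem (Ideal.mul_mem_left _ _ (Ideal.subset_span (Or.inl rfl)))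
        (Ideal.mul_mem_left _ _ hy)
    · exact hy
  · rintro z (rfl | rfl)
    · exact hum
    · exact Ideal.mul_mem_right _ _ (Ideal.sub_mem _ hym (Ideal.mul_mem_right _ _
        (Ideal.mul_mem_right _ _ (Ideal.pow_mem_of_mem _ hum _ (by omega)))))

/-- For `r ≥ 2` an involution is conjugate to one mapping `x` to `± x`. -/
theorem exists_conj [IsAlgClosed k] (h2 : (2 : k) ≠ 0) (hr : 2 ≤ r)
    (σ : ArSing.ring k r ≃ₐ[k] ArSing.ring k r) (hσ : ∀ a, σ (σ a) = a) :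
    ∃ φ : ArSing.ring k r ≃ₐ[k] ArSing.ring k r,
      φ.symm (σ (φ (ArSing.x k r))) = ArSing.x k r ∨ φ.symm (σ (φ (ArSing.x k r))) = -ArSing.x k r := by
  have hx1 : PowerSeries.coeff 1 (re (ArSing.x k r + σ (ArSing.x k r))) +
      PowerSeries.coeff 1 (re (ArSing.x k r - σ (ArSing.x k r))) = 2 := by
    rw [(re_im_add h2 _ _).1, (re_im_sub h2 _ _).1, (re_im_x h2).1, map_add, map_sub,
      PowerSeries.coeff_one_X]
    ring
  obtain ⟨u, hu0, hσu, hu1⟩ : ∃ u, cst u = 0 ∧ (σ u = u ∨ σ u = -u) ∧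
      PowerSeries.coeff 1 (re u) ≠ 0 := by
    by_cases h : PowerSeries.coeff 1 (re (ArSing.x k r + σ (ArSing.x k r))) = 0
    · refine ⟨_, ?_, Or.inr ?_, fun h' => h2 (by rw [← hx1, h, h', add_zero])⟩
      · rw [map_sub, cst_alg, sub_self]
      · rw [map_sub, hσ, neg_sub]
    · refine ⟨_, ?_, Or.inl ?_, h⟩
      · rw [map_add, cst_alg, cst_x, add_zero]
      · rw [map_add, hσ, add_comm]
  obtain ⟨α, β, huαβ, hα, -⟩ := linear_part hu0
  obtain ⟨w, hw, hgen⟩ := exists_coord (A := ArSing.ring k r) (j := r - 2) (isUnit_two h2)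
    (fun e he => exists_sqrt h2 he) (ArSing.x k r) (ArSing.y k r) u α β
    (by rw [show r - 2 + 2 + 1 = r + 1 by omega]; exact y_sq)
    huαβ (isUnit_iff.2 (by rw [hα]; exact hu1)) (mem_maximalIdeal_iff.2 hu0) maximalIdeal_eq
  rw [show r - 2 + 2 + 1 = r + 1 by omega] at hw
  obtain ⟨φ, hφx, -⟩ := exists_aut u w hw hgen
  refine ⟨φ, hσu.imp (fun h => ?_) (fun h => ?_)⟩
  · rw [hφx, h, ← hφx, AlgEquiv.symm_apply_apply]
  · rw [hφx, h, map_neg, ← hφx, AlgEquiv.symm_apply_apply]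

/-- Conjugate of an involution, as an equivalence. -/
noncomputable def conj (φ σ : ArSing.ring k r ≃ₐ[k] ArSing.ring k r) :
    ArSing.ring k r ≃ₐ[k] ArSing.ring k r := φ.trans (σ.trans φ.symm)

theorem conj_apply (φ σ : ArSing.ring k r ≃ₐ[k] ArSing.ring k r) (a : ArSing.ring k r) :
    conj φ σ a = φ.symm (σ (φ a)) := rfl

theorem conj_invol {φ σ : ArSing.ring k r ≃ₐ[k] ArSing.ring k r} (hσ : ∀ a, σ (σ a) = a)
    (a : ArSing.ring k r) : conj φ σ (conj φ σ a) = a := by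
  rw [conj_apply, conj_apply, AlgEquiv.apply_symm_apply, hσ, AlgEquiv.symm_apply_apply]

theorem conj_ne_refl {φ σ : ArSing.ring k r ≃ₐ[k] ArSing.ring k r} (hne : σ ≠ AlgEquiv.refl) :
    conj φ σ ≠ AlgEquiv.refl := fun h => hne (AlgEquiv.ext fun a => by
  have := congrArg φ (DFunLike.congr_fun h (φ.symm a))
  simpa [conj_apply] using this)

end Groth.Agent.ArSingLib
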