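import Groth.Agent.ArSingLib.Invol

/-! # The two branches of the node `k[[x, y]]/(y^2 - x^2)` -/

universe u

open IsLocalRing

namespace Groth.Agent.ArSingLib

variable {k : Type u} [Field k]

theorem expand_injective :
    Function.Injective (PowerSeries.expand 2 two_ne_zero : PowerSeries k → PowerSeries k) :=
  fun p q hpq => PowerSeries.ext fun n => by
    rw [← PowerSeries.coeff_expand_mul 2 two_ne_zero p n, hpq, PowerSeries.coeff_expand_mul]

theorem node_mul : (ArSing.x k 1 + ArSing.y k 1) * (ArSing.y k 1 - ArSing.x k 1) = 0 := by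
  linear_combination (y_sq (k := k) (r := 1))

/-- A branch of the node: `a` lies in the ideal of the branch iff it is killed on it. -/
theorem node_branch (s : k) (hs : s * s = 1) (β : ArSing.ring k 1 →ₐ[k] PowerSeries k)
    (hx : β (ArSing.x k 1) = PowerSeries.X ^ 2)
    (hy : β (ArSing.y k 1) = algebraMap k (PowerSeries k) s * PowerSeries.X ^ (1 + 1))
    (a : ArSing.ring k 1) :
    a ∈ Ideal.span {ArSing.y k 1 - algebraMap k _ s * ArSing.x k 1} ↔ β a = 0 := by
  constructor
  · intro h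
    obtain ⟨c, rfl⟩ := Ideal.mem_span_singleton'.1 h
    rw [map_mul, map_sub, map_mul, AlgHom.commutes, hx, hy, sub_self, mul_zero]
  · intro h
    rw [re_add_im a, map_add, map_mul, branch_xMap β hx, branch_xMap β hx, hy,
      show (PowerSeries.X : PowerSeries k) ^ (1 + 1) = PowerSeries.expand 2 two_ne_zero PowerSeries.X from
        (PowerSeries.expand_X 2 two_ne_zero).symm,
      show algebraMap k (PowerSeries k) s =
          PowerSeries.expand 2 two_ne_zero (algebraMap k (PowerSeries k) s) by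
        simp [PowerSeries.algebraMap_apply, PowerSeries.expand_C],
      ← map_mul, ← map_mul, ← map_add] at h
    have h0 : re a + im a * (algebraMap k (PowerSeries k) s * PowerSeries.X) = 0 :=
      expand_injective (h.trans (map_zero _).symm)
    refine Ideal.mem_span_singleton'.2 ⟨ArSing.xMap k 1 (im a), ?_⟩
    conv_rhs => rw [re_add_im a, eq_neg_of_add_eq_zero_left h0]
    rw [map_neg, map_mul, map_mul, AlgHom.commutes, xMap_X]
    ring

theorem node_u : (ArSing.x k 1 + ArSing.y k 1) =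
    ArSing.y k 1 - algebraMap k _ (-1 : k) * ArSing.x k 1 := by
  rw [map_neg, map_one]; ring

theorem node_v : (ArSing.y k 1 - ArSing.x k 1) =
    ArSing.y k 1 - algebraMap k _ (1 : k) * ArSing.x k 1 := by
  rw [map_one, one_mul]

theorem node_prime (s : k) (hs : s * s = 1) :
    (Ideal.span {ArSing.y k 1 - algebraMap k _ s * ArSing.x k 1}).IsPrime := by
  obtain ⟨β, hx, hy⟩ := exists_branch (k := k) (r := 1) s (by rw [sq, hs])
  have : Ideal.span {ArSing.y k 1 - algebraMap k _ s * ArSing.x k 1} = RingHom.ker β :=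
    Ideal.ext fun a => (node_branch s hs β hx hy a).trans RingHom.mem_ker.symm
  rw [this]
  exact RingHom.ker_isPrime _

theorem prime_u : (Ideal.span {ArSing.x k 1 + ArSing.y k 1}).IsPrime := by
  rw [node_u]; exact node_prime _ (by ring)

theorem prime_v : (Ideal.span {ArSing.y k 1 - ArSing.x k 1}).IsPrime := by
  rw [node_v]; exact node_prime _ (by ring)

theorem node_inter (h2 : (2 : k) ≠ 0) {a : ArSing.ring k 1}
    (hu : a ∈ Ideal.span {ArSing.x k 1 + ArSing.y k 1})
    (hv : a ∈ Ideal.span {ArSing.y k 1 - ArSing.x k 1}) : a = 0 := by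
  obtain ⟨β₁, hx₁, hy₁⟩ := exists_branch (k := k) (r := 1) 1 (one_pow 2)
  obtain ⟨β₂, hx₂, hy₂⟩ := exists_branch (k := k) (r := 1) (-1) (by ring)
  rw [node_v, node_branch 1 (by ring) β₁ hx₁ hy₁, re_add_im a] at hv
  rw [node_u, node_branch (-1) (by ring) β₂ hx₂ hy₂, re_add_im a] at hu
  rw [map_add, map_mul, branch_xMap β₁ hx₁, branch_xMap β₁ hx₁, hy₁, map_one, one_mul] at hv
  rw [map_add, map_mul, branch_xMap β₂ hx₂, branch_xMap β₂ hx₂, hy₂, map_neg, map_one,
    neg_one_mul] at hu
  have h1 : re a = 0 := expand_injective (by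
    rw [map_zero]
    exact mul_left_cancel₀ (two_ne_zero_ps h2) (by linear_combination hu + hv))
  have h3 : im a = 0 := expand_injective (by
    rw [map_zero]
    refine (mul_eq_zero.1 ?_).resolve_right (pow_ne_zero (1 + 1) PowerSeries.X_ne_zero)
    exact mul_left_cancel₀ (two_ne_zero_ps h2) (by linear_combination hv - hu))
  rw [re_add_im a, h1, h3]
  simp

theorem u_notMem (h2 : (2 : k) ≠ 0) :
    (ArSing.x k 1 + ArSing.y k 1) ∉ Ideal.span {ArSing.y k 1 - ArSing.x k 1} := fun h => by
  have h0 := congrArg im (node_inter h2 (Ideal.mem_span_singleton_self _) h)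
  rw [(re_im_add h2 _ _).2, (re_im_x h2).2, (re_im_y h2).2, ← map_zero (ArSing.xMap k 1),
    (re_im_xMap h2 _).2, zero_add] at h0
  exact one_ne_zero h0

theorem v_notMem (h2 : (2 : k) ≠ 0) :
    (ArSing.y k 1 - ArSing.x k 1) ∉ Ideal.span {ArSing.x k 1 + ArSing.y k 1} := fun h => by
  have h0 := congrArg im (node_inter h2 h (Ideal.mem_span_singleton_self _))
  rw [(re_im_sub h2 _ _).2, (re_im_x h2).2, (re_im_y h2).2, ← map_zero (ArSing.xMap k 1),
    (re_im_xMap h2 _).2, sub_zero] at h0
  exact one_ne_zero h0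

theorem node_max (h2 : (2 : k) ≠ 0) :
    maximalIdeal (ArSing.ring k 1) =
      Ideal.span {ArSing.x k 1 + ArSing.y k 1, ArSing.y k 1 - ArSing.x k 1} := by
  obtain ⟨t, ht⟩ := isUnit_two (r := 1) h2
  have htt : (↑t⁻¹ : ArSing.ring k 1) * 2 = 1 := by rw [← ht, Units.inv_mul]
  rw [maximalIdeal_eq]
  refine le_antisymm (Ideal.span_le.2 ?_) (Ideal.span_le.2 ?_)
  · rintro z (rfl | rfl) <;> rw [SetLike.mem_coe, Ideal.mem_span_pair]
    · exact ⟨↑t⁻¹, -↑t⁻¹, by linear_combination ArSing.x k 1 * htt⟩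
    · exact ⟨↑t⁻¹, ↑t⁻¹, by linear_combination ArSing.y k 1 * htt⟩
  · rintro z (rfl | rfl) <;> rw [SetLike.mem_coe, Ideal.mem_span_pair]
    · exact ⟨1, 1, by ring⟩
    · exact ⟨-1, 1, by ring⟩

end Groth.Agent.ArSingLib
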