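import Groth.Agent.ArSingLib.Basic

/-! # `k[[x, y]]/(y^2 - x^(r+1))` is free over `k[[x]]` with basis `1, y` -/

universe u

open IsLocalRing

namespace Groth.Agent.ArSingLib

variable {k : Type u} [Field k] {r : ℕ}

theorem y_sq : (ArSing.y k r) ^ 2 = ArSing.x k r ^ (r + 1) := by
  rw [← sub_eq_zero, ArSing.x, ArSing.y, ← map_pow, ← map_pow, ← map_sub, Ideal.Quotient.eq_zero_iff_mem]
  exact Ideal.mem_span_singleton_self _

theorem step (a : ArSing.ring k r) : ∃ (c d : k) (a' : ArSing.ring k r),
    a = algebraMap k (ArSing.ring k r) c + algebraMap k (ArSing.ring k r) d * ArSing.y k r +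
      ArSing.x k r * a' := by
  obtain ⟨G, H, h⟩ := decomp a
  obtain ⟨G', H', h'⟩ := decomp H
  refine ⟨cst a, cst H, G + ArSing.y k r * G' + ArSing.x k r ^ r * H', ?_⟩
  conv_lhs => rw [h, h']
  linear_combination H' * (y_sq (k := k) (r := r))

theorem mk_eq_shift (e : ℕ → k) :
    PowerSeries.mk e = PowerSeries.X * PowerSeries.mk (fun i => e (i + 1)) +
      algebraMap k (PowerSeries k) (e 0) := by
  ext n
  cases n <;> simp [PowerSeries.algebraMap_apply]

theorem repr_exists (a : ArSing.ring k r) : ∃ f g : PowerSeries k,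
    a = ArSing.xMap k r f + ArSing.xMap k r g * ArSing.y k r := by
  choose c d next hstep using (step (k := k) (r := r))
  let q : ℕ → ArSing.ring k r := fun n => next^[n] a
  let f : ℕ → PowerSeries k := fun n => PowerSeries.mk fun i => c (q (n + i))
  let g : ℕ → PowerSeries k := fun n => PowerSeries.mk fun i => d (q (n + i))
  have hsh : ∀ (n : ℕ) (e : ArSing.ring k r → k),
      (PowerSeries.mk fun i => e (q (n + i))) =
        PowerSeries.X * (PowerSeries.mk fun i => e (q (n + 1 + i))) +
          algebraMap k (PowerSeries k) (e (q n)) := fun n e => by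
    rw [mk_eq_shift]
    simp [add_assoc, add_comm 1]
  let D : ℕ → ArSing.ring k r := fun n =>
    q n - (ArSing.xMap k r (f n) + ArSing.xMap k r (g n) * ArSing.y k r)
  have hD : ∀ n, D n = ArSing.x k r * D (n + 1) := by
    intro n
    have hq : q (n + 1) = next (q n) := Function.iterate_succ_apply' _ _ _
    simp only [D, f, g]
    rw [hsh n c, hsh n d, map_add, map_add, map_mul, map_mul, AlgHom.commutes, AlgHom.commutes,
      xMap_X, hq]
    linear_combination hstep (q n)
  have hn : ∀ n, D 0 = ArSing.x k r ^ n * D n := by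
    intro n
    induction n with
    | zero => simp
    | succ n ih => rw [ih, hD n, pow_succ, mul_assoc]
  refine ⟨f 0, g 0, eq_of_forall_mem (maximalIdeal (ArSing.ring k r)) fun n => ?_⟩
  rw [show a - (ArSing.xMap k r (f 0) + ArSing.xMap k r (g 0) * ArSing.y k r) = D 0 from rfl, hn n]
  exact Ideal.mul_mem_right _ _ (Ideal.pow_mem_pow (mem_maximalIdeal_iff.2 cst_x) n)

theorem exists_branch (s : k) (hs : s ^ 2 = 1) : ∃ β : ArSing.ring k r →ₐ[k] PowerSeries k,
    β (ArSing.x k r) = PowerSeries.X ^ 2 ∧
      β (ArSing.y k r) = algebraMap k (PowerSeries k) s * PowerSeries.X ^ (r + 1) := by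
  have hsub : MvPowerSeries.HasSubst (![PowerSeries.X ^ 2,
      algebraMap k (PowerSeries k) s * PowerSeries.X ^ (r + 1)] : Fin 2 → MvPowerSeries Unit k) :=
    MvPowerSeries.hasSubst_of_constantCoeff_zero fun i => by
      fin_cases i
      · show PowerSeries.constantCoeff (PowerSeries.X ^ 2 : PowerSeries k) = 0
        simp
      · show PowerSeries.constantCoeff
          (algebraMap k (PowerSeries k) s * PowerSeries.X ^ (r + 1) : PowerSeries k) = 0
        simp
  let Φ : MvPowerSeries (Fin 2) k →ₐ[k] PowerSeries k := MvPowerSeries.substAlgHom hsub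
  have h0 : Φ (MvPowerSeries.X 0) = PowerSeries.X ^ 2 := MvPowerSeries.substAlgHom_X hsub 0
  have h1 : Φ (MvPowerSeries.X 1) = algebraMap k (PowerSeries k) s * PowerSeries.X ^ (r + 1) :=
    MvPowerSeries.substAlgHom_X hsub 1
  refine ⟨Ideal.Quotient.liftₐ _ Φ fun z hz => ?_, h0, h1⟩
  obtain ⟨c, rfl⟩ := Ideal.mem_span_singleton'.1 hz
  rw [map_mul, show ArSing.eqn k r = MvPowerSeries.X 1 ^ 2 - MvPowerSeries.X 0 ^ (r + 1) from rfl,
    map_sub, map_pow, map_pow, h0, h1, mul_pow, ← map_pow, hs, map_one, one_mul, ← pow_mul, ← pow_mul,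
    mul_comm (r + 1) 2, sub_self, mul_zero]

/-- Evaluation on a branch, on the image of `k[[x]]`. -/
theorem branch_xMap (β : ArSing.ring k r →ₐ[k] PowerSeries k)
    (hx : β (ArSing.x k r) = PowerSeries.X ^ 2) (f : PowerSeries k) :
    β (ArSing.xMap k r f) = PowerSeries.expand 2 two_ne_zero f := by
  refine DFunLike.congr_fun (ps_hom_ext (maximalIdeal (PowerSeries k))
    (φ := β.comp (ArSing.xMap k r)) (ψ := PowerSeries.expand 2 two_ne_zero) ?_ ?_) f
  · simp [hx]
  · rw [AlgHom.comp_apply, xMap_X, hx, PowerSeries.maximalIdeal_eq_span_X]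
    exact Ideal.pow_mem_of_mem _ (Ideal.mem_span_singleton_self _) 2 two_pos

theorem two_ne_zero_ps (h2 : (2 : k) ≠ 0) : (2 : PowerSeries k) ≠ 0 := fun h => h2 (by
  have e := congrArg PowerSeries.constantCoeff h
  rwa [map_ofNat, map_zero] at e)

theorem repr_unique (h2 : (2 : k) ≠ 0) {f g f' g' : PowerSeries k}
    (h : ArSing.xMap k r f + ArSing.xMap k r g * ArSing.y k r =
      ArSing.xMap k r f' + ArSing.xMap k r g' * ArSing.y k r) : f = f' ∧ g = g' := by
  obtain ⟨β₁, hx₁, hy₁⟩ := exists_branch (k := k) (r := r) 1 (one_pow 2)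
  obtain ⟨β₂, hx₂, hy₂⟩ := exists_branch (k := k) (r := r) (-1) (by ring)
  have e1 := congrArg β₁ h
  have e2 := congrArg β₂ h
  simp only [map_add, map_mul, branch_xMap β₁ hx₁, branch_xMap β₂ hx₂, hy₁, hy₂, map_one, map_neg,
    one_mul, neg_mul, mul_neg] at e1 e2
  have hinj : Function.Injective (PowerSeries.expand 2 two_ne_zero : PowerSeries k → PowerSeries k) :=
    fun p q hpq => PowerSeries.ext fun n => by
      rw [← PowerSeries.coeff_expand_mul 2 two_ne_zero p n, hpq, PowerSeries.coeff_expand_mul]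
  constructor
  · exact hinj (mul_left_cancel₀ (two_ne_zero_ps h2) (by linear_combination e1 + e2))
  · refine hinj (mul_right_cancel₀ (pow_ne_zero (r + 1) PowerSeries.X_ne_zero)
      (mul_left_cancel₀ (two_ne_zero_ps h2) ?_))
    linear_combination e1 - e2

/-- The first coordinate in the basis `1, y`. -/
noncomputable def re (a : ArSing.ring k r) : PowerSeries k := (repr_exists a).choose

/-- The second coordinate in the basis `1, y`. -/
noncomputable def im (a : ArSing.ring k r) : PowerSeries k := (repr_exists a).choose_spec.choose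

theorem re_add_im (a : ArSing.ring k r) :
    a = ArSing.xMap k r (re a) + ArSing.xMap k r (im a) * ArSing.y k r :=
  (repr_exists a).choose_spec.choose_spec

theorem cst_eq (a : ArSing.ring k r) : cst a = PowerSeries.constantCoeff (re a) := by
  conv_lhs => rw [re_add_im a]
  simp [cst_xMap]

/-- An element of the maximal ideal is a combination of `x` and `y`. -/
theorem linear_part {a : ArSing.ring k r} (ha : cst a = 0) :
    ∃ α β : ArSing.ring k r, a = α * ArSing.x k r + β * ArSing.y k r ∧
      cst α = PowerSeries.coeff 1 (re a) ∧ cst β = PowerSeries.constantCoeff (im a) := by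
  obtain ⟨f, hf⟩ := PowerSeries.X_dvd_iff.2 ((cst_eq a).symm.trans ha)
  refine ⟨ArSing.xMap k r f, ArSing.xMap k r (im a), ?_, ?_, cst_xMap _⟩
  · conv_lhs => rw [re_add_im a, hf, map_mul, xMap_X, mul_comm]
  · rw [cst_xMap, hf, PowerSeries.coeff_succ_X_mul, PowerSeries.coeff_zero_eq_constantCoeff_apply]

variable (h2 : (2 : k) ≠ 0)

include h2

theorem re_im_eq {a : ArSing.ring k r} {f g : PowerSeries k}
    (h : a = ArSing.xMap k r f + ArSing.xMap k r g * ArSing.y k r) : re a = f ∧ im a = g :=
  repr_unique h2 ((re_add_im a).symm.trans h)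

theorem re_im_add (a b : ArSing.ring k r) : re (a + b) = re a + re b ∧ im (a + b) = im a + im b :=
  re_im_eq h2 (by
    rw [map_add, map_add]
    linear_combination re_add_im a + re_add_im b)

theorem re_im_sub (a b : ArSing.ring k r) : re (a - b) = re a - re b ∧ im (a - b) = im a - im b :=
  re_im_eq h2 (by
    rw [map_sub, map_sub]
    linear_combination re_add_im a - re_add_im b)

theorem re_im_mul (a b : ArSing.ring k r) :
    re (a * b) = re a * re b + PowerSeries.X ^ (r + 1) * (im a * im b) ∧
      im (a * b) = re a * im b + im a * re b :=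
  re_im_eq h2 (by
    conv_lhs => rw [re_add_im a, re_add_im b]
    simp only [map_add, map_mul, map_pow, xMap_X]
    linear_combination (ArSing.xMap k r (im a) * ArSing.xMap k r (im b)) * (y_sq (k := k) (r := r)))

theorem re_im_xMap (f : PowerSeries k) :
    re (ArSing.xMap k r f) = f ∧ im (ArSing.xMap k r f) = 0 :=
  re_im_eq h2 (by simp)

theorem re_im_x : re (ArSing.x k r) = PowerSeries.X ∧ im (ArSing.x k r) = 0 :=
  re_im_eq h2 (by simp)

theorem re_im_y : re (ArSing.y k r) = 0 ∧ im (ArSing.y k r) = 1 :=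
  re_im_eq h2 (by simp)

theorem xMap_injective : Function.Injective (ArSing.xMap k r) := fun f g h => by
  rw [← (re_im_xMap h2 (r := r) f).1, ← (re_im_xMap h2 (r := r) g).1, h]

end Groth.Agent.ArSingLib
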